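import Groth.Agent.Lib.Flatness.InjMod
import Groth.Agent.Lib.RegSeqLoc.Basic
import Groth.Agent.Lib.CMFree.Params
import Groth.Prelude.Def_CAlg

/-!
# Lifting regular sequences and ideals over artinian local rings
-/

universe u

namespace GrothLib.DefLift

open TensorProduct Function Submodule RingTheory.Sequence

section Reflect

variable {C : Type u} [CommRing C] {M : Type u} [AddCommGroup M] [Module C M]

/-- In a flat module, `(J M : s) ⊆ (J : s) M`. -/
theorem mem_colon_smul_top [Module.Flat C M] (J : Ideal C) (s : C) {w : M}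
    (h : s • w ∈ J • (⊤ : Submodule C M)) :
    w ∈ (Submodule.comap (LinearMap.mulLeft C s) J : Ideal C) • (⊤ : Submodule C M) := by
  let K : Ideal C := Submodule.comap (LinearMap.mulLeft C s) J
  let φ : (C ⧸ K) →ₗ[C] C ⧸ J := Submodule.mapQ K J (LinearMap.mulLeft C s) le_rfl
  have hφ : Injective φ := by
    rw [injective_iff_map_eq_zero]
    intro q hq
    obtain ⟨c, rfl⟩ := Submodule.Quotient.mk_surjective _ q
    have : s * c ∈ J := (Submodule.Quotient.mk_eq_zero J).1 hq
    exact (Submodule.Quotient.mk_eq_zero K).2 this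
  have hinj : Injective (φ.rTensor M) := Module.Flat.rTensor_preserves_injective_linearMap φ hφ
  rw [← GrothLib.Flatness.one_tmul_eq_zero_iff] at h ⊢
  refine hinj ?_
  rw [map_zero, LinearMap.rTensor_tmul]
  have e : φ (1 : C ⧸ K) = s • (1 : C ⧸ J) := by
    show Submodule.mapQ K J (LinearMap.mulLeft C s) le_rfl (Submodule.Quotient.mk 1) = _
    rw [Submodule.mapQ_apply]
    simp [Algebra.smul_def]
  rw [e, TensorProduct.smul_tmul]
  exact h

variable [IsLocalRing C] [IsArtinianRing C]

open IsLocalRing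

/-- An endomorphism of a flat module over an artinian local ring which is injective modulo the
maximal ideal reflects every `J M`. -/
theorem reflect_smul_top [Module.Flat C M] (u : M →ₗ[C] M)
    (hu : ∀ y, u y ∈ maximalIdeal C • (⊤ : Submodule C M) → y ∈ maximalIdeal C • (⊤ : Submodule C M))
    (J : Ideal C) : ∀ y, u y ∈ J • (⊤ : Submodule C M) → y ∈ J • (⊤ : Submodule C M) := by
  induction J using WellFoundedGT.induction with
  | ind J ih =>
  intro y hy
  by_cases hJ : J = ⊤
  · rw [hJ, Submodule.top_smul]; trivial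
  obtain ⟨s, hsJ, hs⟩ : ∃ s, s ∉ J ∧ ∀ a ∈ maximalIdeal C, a * s ∈ J := by
    classical
    obtain ⟨n, hn⟩ : IsNilpotent (maximalIdeal C) :=
      maximalIdeal_le_jacobson (⊥ : Ideal C) |>.antisymm (jacobson_eq_maximalIdeal ⊥ bot_ne_top).le ▸
        IsArtinianRing.isNilpotent_jacobson_bot
    have hex : ∃ k, maximalIdeal C ^ k ≤ J := ⟨n, by rw [hn]; exact bot_le⟩
    have hk0 : Nat.find hex ≠ 0 := fun h0 => hJ (by
      have := Nat.find_spec hex
      rw [h0, pow_zero, Ideal.one_eq_top] at this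
      exact top_le_iff.1 this)
    obtain ⟨k, hk⟩ := Nat.exists_eq_succ_of_ne_zero hk0
    obtain ⟨s, hs, hsJ⟩ := SetLike.not_le_iff_exists.1 (Nat.find_min hex (hk ▸ k.lt_succ_self : k < Nat.find hex))
    refine ⟨s, hsJ, fun a ha => ?_⟩
    have := Nat.find_spec hex
    rw [hk, pow_succ'] at this
    exact this (Ideal.mul_mem_mul ha hs)
  have hlt : J < J ⊔ Ideal.span {s} := left_lt_sup.2 fun h => hsJ (h (Ideal.mem_span_singleton_self s))
  have hy' : y ∈ (J ⊔ Ideal.span {s}) • (⊤ : Submodule C M) :=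
    ih _ hlt y (Submodule.smul_mono_left le_sup_left hy)
  rw [Submodule.sup_smul, Submodule.mem_sup] at hy'
  obtain ⟨a, ha, b, hb, rfl⟩ := hy'
  rw [Submodule.ideal_span_singleton_smul] at hb
  obtain ⟨z, -, rfl⟩ := hb
  refine add_mem ha ?_
  have hua : u a ∈ J • (⊤ : Submodule C M) := by
    refine (?_ : Submodule.map u (J • (⊤ : Submodule C M)) ≤ _) ⟨a, ha, rfl⟩
    rw [Submodule.map_smul'']
    exact Submodule.smul_mono le_rfl le_top
  have hsz : s • u z ∈ J • (⊤ : Submodule C M) := by
    have := sub_mem hy hua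
    rwa [map_add, add_sub_cancel_left, show (DistribSMul.toLinearMap C M s) z = s • z from rfl, map_smul] at this
  have hcolon : (Submodule.comap (LinearMap.mulLeft C s) J : Ideal C) ≤ maximalIdeal C :=
    IsLocalRing.le_maximalIdeal fun htop => hsJ (by
      simpa using (htop.ge (Submodule.mem_top (x := (1 : C)))))
  have hz := hu z (Submodule.smul_mono_left hcolon (mem_colon_smul_top J s hsz))
  show s • z ∈ J • (⊤ : Submodule C M)
  refine Submodule.smul_induction_on hz (fun a ha w _ => ?_) fun p q hp hq => by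
    rw [smul_add]; exact add_mem hp hq
  rw [smul_smul, mul_comm]
  exact Submodule.smul_mem_smul (hs a ha) trivial

end Reflect

section Ring

variable {C : Type u} [CommRing C] [IsLocalRing C] [IsArtinianRing C] {A : Type u} [CommRing A] [Algebra C A]

open IsLocalRing

/-- A non-zero-divisor on the special fibre of a flat quotient is one on the quotient, with flat
cokernel. -/
theorem step (I : Ideal A) [Module.Flat C (A ⧸ I)] (x : A)
    (hx : ∀ y, x * y ∈ I ⊔ (maximalIdeal C).map (algebraMap C A) → y ∈ I ⊔ (maximalIdeal C).map (algebraMap C A)) :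
    (∀ y, x * y ∈ I → y ∈ I) ∧ Module.Flat C (A ⧸ (I ⊔ Ideal.span {x})) := by
  let u : (A ⧸ I) →ₗ[C] A ⧸ I := LinearMap.mulLeft C (Ideal.Quotient.mk I x)
  have hmem : ∀ y : A, Ideal.Quotient.mk I y ∈ maximalIdeal C • (⊤ : Submodule C (A ⧸ I)) ↔
      y ∈ I ⊔ (maximalIdeal C).map (algebraMap C A) := fun y => by
    rw [Ideal.smul_top_eq_map, Submodule.restrictScalars_mem,
      show algebraMap C (A ⧸ I) = (Ideal.Quotient.mk I).comp (algebraMap C A) from rfl, ← Ideal.map_map,
      Ideal.mem_quotient_iff_mem_sup, sup_comm]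
  obtain ⟨hinj, hflat, -⟩ := GrothLib.Flatness.flat_coker_of_forall_mem u
    (reflect_smul_top u fun q hq => by
      obtain ⟨y, rfl⟩ := Ideal.Quotient.mk_surjective q
      rw [LinearMap.mulLeft_apply, ← map_mul, hmem] at hq
      exact (hmem y).2 (hx y hq))
  refine ⟨fun y hy => Ideal.Quotient.eq_zero_iff_mem.1 (hinj ?_), ?_⟩
  · rw [map_zero, LinearMap.mulLeft_apply, ← map_mul, Ideal.Quotient.eq_zero_iff_mem.2 hy]
  · haveI := hflat
    let π : (A ⧸ I) →ₗ[C] A ⧸ (I ⊔ Ideal.span {x}) := (Ideal.Quotient.factorₐ C (le_sup_left : I ≤ I ⊔ Ideal.span {x})).toLinearMap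
    have hπ : Surjective π := Ideal.Quotient.factor_surjective (le_sup_left : I ≤ I ⊔ Ideal.span {x})
    have hk : LinearMap.range u = LinearMap.ker π := by
      ext q
      obtain ⟨y, rfl⟩ := Ideal.Quotient.mk_surjective q
      constructor
      · rintro ⟨w, hw⟩
        obtain ⟨w, rfl⟩ := Ideal.Quotient.mk_surjective w
        rw [LinearMap.mem_ker, ← hw]
        show Ideal.Quotient.mk (I ⊔ Ideal.span {x}) (x * w) = 0
        exact Ideal.Quotient.eq_zero_iff_mem.2
          (Ideal.mem_sup_right (Ideal.mul_mem_right _ _ (Ideal.mem_span_singleton_self x)))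
      · intro h
        obtain ⟨i, hi, b, hb, rfl⟩ := Submodule.mem_sup.1 (Ideal.Quotient.eq_zero_iff_mem.1 h)
        obtain ⟨w, rfl⟩ := Ideal.mem_span_singleton'.1 hb
        exact ⟨Ideal.Quotient.mk I w, by simp [u, mul_comm, Ideal.Quotient.eq_zero_iff_mem.2 hi]⟩
    exact Module.Flat.of_linearEquiv ((LinearMap.quotKerEquivOfSurjective π hπ).symm.trans
      (Submodule.quotEquivOfEq _ _ hk.symm))

/-- A sequence regular on the special fibre of a flat algebra is regular, with flat quotient. -/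
theorem regular_of_fibre [Module.Flat C A] (rs : List A)
    (h : IsWeaklyRegular (A ⧸ (maximalIdeal C).map (algebraMap C A))
      (rs.map (Ideal.Quotient.mk ((maximalIdeal C).map (algebraMap C A))))) :
    IsWeaklyRegular A rs ∧ Module.Flat C (A ⧸ Ideal.ofList rs) := by
  rw [GrothLib.RegSeqLoc.isWeaklyRegular_iff_mem] at h
  have key : ∀ i (hi : i < rs.length) y, rs[i] * y ∈ Ideal.ofList (rs.take i) ⊔ (maximalIdeal C).map (algebraMap C A) →
      y ∈ Ideal.ofList (rs.take i) ⊔ (maximalIdeal C).map (algebraMap C A) := by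
    intro i hi y hy
    rw [← Ideal.mem_quotient_iff_mem_sup, Ideal.map_ofList, List.map_take] at hy ⊢
    refine h i (by simpa using hi) _ ?_
    simpa using hy
  have hflat : ∀ i, i ≤ rs.length → Module.Flat C (A ⧸ Ideal.ofList (rs.take i)) := by
    intro i
    induction i with
    | zero =>
      intro _
      exact Module.Flat.of_linearEquiv
        ((Submodule.quotEquivOfEqBot (Ideal.ofList (rs.take 0)) (by simp)).restrictScalars C)
    | succ i ih =>
      intro hi
      haveI := ih (by omega)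
      obtain ⟨-, h2⟩ := step (Ideal.ofList (rs.take i)) rs[i] (key i (by omega))
      rwa [← List.take_concat_get' rs i (by omega), Ideal.ofList_append, Ideal.ofList_singleton]
  refine ⟨?_, ?_⟩
  swap
  · have h' := hflat rs.length le_rfl
    rwa [List.take_length] at h'
  rw [GrothLib.RegSeqLoc.isWeaklyRegular_iff_mem]
  intro i hi y hy
  haveI := hflat i hi.le
  exact (step (Ideal.ofList (rs.take i)) rs[i] (key i hi)).1 y hy

end Ring

section Ideals

variable {C : Type u} [CommRing C] {A : Type u} [CommRing A] [Algebra C A]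

theorem le_of_le_sup_mul {N L B : Ideal A} (hN : IsNilpotent N) (h : L ≤ B ⊔ N * L) : L ≤ B := by
  have key : ∀ n : ℕ, L ≤ B ⊔ N ^ n * L := by
    intro n
    induction n with
    | zero => simp
    | succ n ih =>
      refine ih.trans (sup_le le_sup_left ((Ideal.mul_mono_right h).trans ?_))
      rw [Ideal.mul_sup, ← mul_assoc, ← pow_succ]
      exact sup_le_sup_right Ideal.mul_le_right _
  obtain ⟨n, hn⟩ := hN
  have := key n
  rwa [hn, zero_mul, Ideal.zero_eq_bot, sup_bot_eq] at this

/-- For a flat quotient, `L ∩ J A = J L`. -/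
theorem inf_map_le_mul (J : Ideal C) (L : Ideal A) [Module.Flat C (A ⧸ L)] :
    L ⊓ J.map (algebraMap C A) ≤ J.map (algebraMap C A) * L := by
  rintro y ⟨hyL, hy⟩
  let ι : ↥(L.restrictScalars C) →ₗ[C] A := (L.restrictScalars C).subtype
  let π : A →ₗ[C] A ⧸ L := (Ideal.Quotient.mkₐ C L).toLinearMap
  have hex : Exact ι π := fun z => by
    constructor
    · intro hz
      exact ⟨⟨z, Ideal.Quotient.eq_zero_iff_mem.1 hz⟩, rfl⟩
    · rintro ⟨w, rfl⟩
      exact Ideal.Quotient.eq_zero_iff_mem.2 w.2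
  have hinj := LinearMap.lTensor_injective_of_exact_of_flat π Ideal.Quotient.mk_surjective ι
    Subtype.val_injective hex (C ⧸ J)
  have h0 : (1 : C ⧸ J) ⊗ₜ[C] (⟨y, hyL⟩ : ↥(L.restrictScalars C)) = 0 := by
    refine hinj ?_
    rw [map_zero, LinearMap.lTensor_tmul, GrothLib.Flatness.one_tmul_eq_zero_iff, Ideal.smul_top_eq_map]
    exact hy
  rw [GrothLib.Flatness.one_tmul_eq_zero_iff] at h0
  have hmap : Submodule.map ι (J • (⊤ : Submodule C ↥(L.restrictScalars C))) ≤
      (J.map (algebraMap C A) * L).restrictScalars C := by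
    rw [Submodule.map_smul'', Submodule.smul_le]
    rintro c hc _ ⟨w, -, rfl⟩
    rw [Algebra.smul_def]
    exact Ideal.mul_mem_mul (Ideal.mem_map_of_mem _ hc) w.2
  exact hmap ⟨_, h0, rfl⟩

/-- Lifts of generators of the reduction generate a flat lift. -/
theorem exists_lift_generators (J : Ideal C) (hJ : IsNilpotent J) (L : Ideal A) [Module.Flat C (A ⧸ L)]
    {r : ℕ} (a : Fin r → A ⧸ J.map (algebraMap C A))
    (h : L.map (Ideal.Quotient.mk (J.map (algebraMap C A))) = Ideal.span (Set.range a)) :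
    ∃ a' : Fin r → A, (∀ i, Ideal.Quotient.mk (J.map (algebraMap C A)) (a' i) = a i) ∧
      L = Ideal.span (Set.range a') := by
  have : ∀ i, ∃ y ∈ L, Ideal.Quotient.mk (J.map (algebraMap C A)) y = a i := fun i =>
    (Ideal.mem_map_iff_of_surjective _ Ideal.Quotient.mk_surjective).1 (h.ge (Ideal.subset_span ⟨i, rfl⟩))
  choose a' ha'L ha' using this
  refine ⟨a', ha', le_antisymm ?_ (Ideal.span_le.2 ?_)⟩
  · refine le_of_le_sup_mul (N := J.map (algebraMap C A)) ?_ fun y hy => ?_
    · obtain ⟨n, hn⟩ := hJ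
      exact ⟨n, by rw [← Ideal.map_pow, hn, Ideal.zero_eq_bot, Ideal.map_bot]; rfl⟩
    · have h2 : Ideal.Quotient.mk (J.map (algebraMap C A)) y ∈
          (Ideal.span (Set.range a')).map (Ideal.Quotient.mk (J.map (algebraMap C A))) := by
        rw [Ideal.map_span, ← Set.range_comp, show _ ∘ a' = a from funext ha', ← h]
        exact Ideal.mem_map_of_mem _ hy
      obtain ⟨b, hb, hby⟩ := (Ideal.mem_map_iff_of_surjective _ Ideal.Quotient.mk_surjective).1 h2
      rw [eq_comm, Ideal.Quotient.eq] at hby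
      have hbL : b ∈ L := Ideal.span_le.2 (by rintro _ ⟨i, rfl⟩; exact ha'L i) hb
      have hmul := inf_map_le_mul J L ⟨sub_mem hy hbL, hby⟩
      exact Submodule.mem_sup.2 ⟨b, hb, y - b, hmul, by abel⟩
  · rintro _ ⟨i, rfl⟩
    exact ha'L i

end Ideals

section CM

/-- Quotients by nilpotent elements keep the dimension. -/
theorem ringKrullDim_quotient_eq {A : Type u} [CommRing A] (N : Ideal A) (h : N ≤ nilradical A) :
    ringKrullDim (A ⧸ N) = ringKrullDim A := by
  rw [ringKrullDim_quotient]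
  have : PrimeSpectrum.zeroLocus (N : Set A) = Set.univ := by
    rw [Set.eq_univ_iff_forall]
    exact fun p => h.trans (nilradical_le_prime p.asIdeal)
  rw [this]
  exact Order.krullDim_eq_of_orderIso OrderIso.Set.univ

theorem isNoetherianRing_of_nilpotent {A : Type u} [CommRing A] (N : Ideal A) (hfg : N.FG)
    (hN : IsNilpotent N) [IsNoetherianRing (A ⧸ N)] : IsNoetherianRing A := by
  refine IsNoetherianRing.of_prime fun P hP => ?_
  obtain ⟨n, hn⟩ := hN
  have hNP : N ≤ P := hP.le_of_pow_le (n := n) (by rw [hn]; exact bot_le)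
  obtain ⟨s, hs⟩ := (IsNoetherian.noetherian (P.map (Ideal.Quotient.mk N)))
  classical
  choose! f hf hf' using fun y (hy : y ∈ s) =>
    (Ideal.mem_map_iff_of_surjective _ Ideal.Quotient.mk_surjective).1 (hs.le (Ideal.subset_span hy))
  obtain ⟨t, ht⟩ := hfg
  refine ⟨s.image f ∪ t, le_antisymm (Ideal.span_le.2 ?_) fun x hx => ?_⟩
  · intro y hy
    simp only [Finset.coe_union, Finset.coe_image, Set.mem_union, Set.mem_image, Finset.mem_coe] at hy
    rcases hy with ⟨z, hz, rfl⟩ | hy
    · exact hf z hz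
    · exact hNP (ht.le (Ideal.subset_span hy))
  · have h1 : Ideal.Quotient.mk N x ∈ (Ideal.span (f '' s)).map (Ideal.Quotient.mk N) := by
      rw [Ideal.map_span, ← Set.image_comp, Set.EqOn.image_eq_self (f := Ideal.Quotient.mk N ∘ f) (fun z hz => hf' z hz)]
      exact hs.ge (Ideal.mem_map_of_mem _ hx)
    rw [Ideal.mem_quotient_iff_mem_sup] at h1
    have h2 : x ∈ Ideal.span (f '' s) ⊔ Ideal.span (t : Set A) :=
      (sup_le_sup_left ht.ge _) h1
    rw [← Ideal.span_union] at h2
    simpa using h2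

/-- In a Cohen–Macaulay local ring, elements dropping the dimension by their number form a weakly
regular sequence. -/
theorem isWeaklyRegular_of_cm (R : Type u) [CommRing R] [LocCoh.IsCohenMacaulayLocalRing R] (rs : List R)
    (hmem : ∀ r ∈ rs, r ∈ IsLocalRing.maximalIdeal R)
    (hdim : ringKrullDim (R ⧸ Ideal.ofList rs) + rs.length ≤ ringKrullDim R) :
    IsWeaklyRegular R rs := by
  obtain ⟨n, hn⟩ : ∃ n : ℕ, ringKrullDim R = n := by
    obtain ⟨d, hd⟩ := WithBot.ne_bot_iff_exists.1 (ringKrullDim_ne_bot (R := R))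
    obtain ⟨n, hn⟩ := WithTop.ne_top_iff_exists.1 (show d ≠ ⊤ from fun h => ringKrullDim_ne_top (R := R) (by rw [← hd, h]; rfl))
    exact ⟨n, by rw [← hd, ← hn]; rfl⟩
  have hdepth : LocCoh.depth R R = n := by
    have h1 := LocCoh.IsCohenMacaulayLocalRing.supportDim_eq_depth (R := R)
    rw [Module.supportDim_self_eq_ringKrullDim, hn] at h1
    exact_mod_cast h1.symm
  let e : (R ⧸ (⊥ : Ideal R)) ≃ₗ[R] R := Submodule.quotEquivOfEqBot ⊥ rfl
  have hne : ∀ (M : Type u) [AddCommGroup M] [Module R M] [Nontrivial M] [Module.Finite R M],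
      IsLocalRing.maximalIdeal R • (⊤ : Submodule R M) ≠ ⊤ := fun M _ _ _ _ h =>
    top_ne_bot (α := Submodule R M) (Submodule.eq_bot_of_le_smul_of_le_jacobson_bot _ _
      (Module.Finite.fg_top (R := R) (M := M)) h.ge (IsLocalRing.maximalIdeal_le_jacobson _))
  obtain ⟨l, hl, hlm, hlreg⟩ := (GrothLib.Depth.le_idealDepth_iff_exists _ (hne R) n).1 hdepth.ge
  haveI : Nontrivial (R ⧸ (⊥ : Ideal R)) := e.toEquiv.nontrivial
  have hw := GrothLib.CMFree.isWeaklyRegular_of_dim rs hmem ⊥ n bot_le
    ((GrothLib.Depth.le_idealDepth_iff_exists _ (hne _) _).2 ⟨l, hl, hlm, (e.isWeaklyRegular_congr l).2 hlreg⟩)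
    (fun m hm2 => by
      rw [bot_sup_eq] at hm2
      have := hm2.trans hdim
      rw [hn] at this
      exact_mod_cast this)
  exact (e.isWeaklyRegular_congr rs).1 hw

end CM

end GrothLib.DefLift

namespace GrothLib.DefLift

open RingTheory.Sequence IsLocalRing

theorem ringKrullDim_quotient_sup {A : Type u} [CommRing A] (L N : Ideal A) (hN : IsNilpotent N) :
    ringKrullDim (A ⧸ (L ⊔ N)) = ringKrullDim (A ⧸ L) := by
  rw [← ringKrullDim_quotient_eq (N.map (Ideal.Quotient.mk L))]
  · exact (ringKrullDim_eq_of_ringEquiv (DoubleQuot.quotQuotEquivQuotSup L N)).symm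
  · obtain ⟨n, hn⟩ := hN
    intro x hx
    refine mem_nilradical.2 ⟨n, ?_⟩
    have h := Ideal.pow_mem_pow hx n
    rwa [← Ideal.map_pow, hn, Ideal.zero_eq_bot, Ideal.map_bot, Ideal.mem_bot] at h

/-- Regular sequences on a thickening of a Cohen–Macaulay special fibre are regular on the fibre. -/
theorem fibre_regular_of_reduction {A : Type u} [CommRing A] (N M : Ideal A) (hNM : N ≤ M) (hM : IsNilpotent M)
    (hfg : M.FG) [LocCoh.IsCohenMacaulayLocalRing (A ⧸ M)] (rs : List A)
    (h : IsRegular (A ⧸ N) (rs.map (Ideal.Quotient.mk N))) :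
    IsWeaklyRegular (A ⧸ M) (rs.map (Ideal.Quotient.mk M)) := by
  haveI hA : IsNoetherianRing A := isNoetherianRing_of_nilpotent M hfg hM
  have hker : ∀ P : Ideal A, P.IsMaximal → M ≤ P := fun P hP => by
    obtain ⟨n, hn⟩ := hM
    exact hP.isPrime.le_of_pow_le (n := n) (by rw [hn]; exact bot_le)
  haveI : IsLocalRing A := IsLocalRing.of_unique_max_ideal
    ⟨(maximalIdeal (A ⧸ M)).comap (Ideal.Quotient.mk M),
      Ideal.comap_isMaximal_of_surjective _ Ideal.Quotient.mk_surjective, fun P hP => by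
      haveI := hP
      have h1 := Ideal.map_eq_top_or_isMaximal_of_surjective (Ideal.Quotient.mk M) Ideal.Quotient.mk_surjective hP
      have h2 : (P.map (Ideal.Quotient.mk M)).comap (Ideal.Quotient.mk M) = P := by
        rw [Ideal.comap_map_of_surjective _ Ideal.Quotient.mk_surjective, ← RingHom.ker_eq_comap_bot,
          Ideal.mk_ker, sup_eq_left]
        exact hker P hP
      rcases h1 with h1 | h1
      · rw [h1, Ideal.comap_top] at h2
        exact absurd h2.symm hP.ne_top
      · rw [← h2, eq_maximalIdeal h1]⟩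
  haveI : IsLocalRing (A ⧸ N) := by
    haveI : Nontrivial (A ⧸ N) := Ideal.Quotient.nontrivial_iff.2
      (ne_top_of_le_ne_top (ne_top_of_le_ne_top (maximalIdeal.isMaximal A).ne_top (hker _ inferInstance)) hNM)
    exact IsLocalRing.of_surjective' _ Ideal.Quotient.mk_surjective
  have hdim : ∀ K : Ideal A, K ≤ M → ∀ L : Ideal A,
      ringKrullDim ((A ⧸ K) ⧸ L.map (Ideal.Quotient.mk K)) = ringKrullDim (A ⧸ L) := fun K hK L => by
    rw [ringKrullDim_eq_of_ringEquiv (DoubleQuot.quotQuotEquivQuotSup K L), sup_comm]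
    refine ringKrullDim_quotient_sup L K ?_
    obtain ⟨n, hn⟩ := hM
    exact ⟨n, le_bot_iff.1 ((Ideal.pow_right_mono hK n).trans hn.le)⟩
  have hdim0 : ∀ K : Ideal A, K ≤ M → ringKrullDim (A ⧸ K) = ringKrullDim A := fun K hK => by
    refine ringKrullDim_quotient_eq K fun x hx => ?_
    obtain ⟨n, hn⟩ := hM
    exact mem_nilradical.2 ⟨n, (Ideal.mem_bot).1 (hn.le (Ideal.pow_mem_pow (hK hx) n))⟩
  refine isWeaklyRegular_of_cm _ _ ?_ ?_
  · intro r hr
    obtain ⟨x, hx, rfl⟩ := List.mem_map.1 hr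
    rw [IsLocalRing.mem_maximalIdeal, mem_nonunits_iff]
    intro hu
    apply h.2
    rw [smul_eq_mul, Ideal.mul_top, eq_comm]
    refine Ideal.eq_top_of_isUnit_mem _ (Ideal.subset_span (List.mem_map_of_mem hx)) ?_
    obtain ⟨y, hy⟩ := hu.exists_right_inv
    obtain ⟨y, rfl⟩ := Ideal.Quotient.mk_surjective y
    rw [← map_mul, ← sub_eq_zero, ← map_one (Ideal.Quotient.mk M), ← map_sub,
      Ideal.Quotient.eq_zero_iff_mem] at hy
    have hxu : IsUnit x := by
      by_contra hx'
      have h1 : x * y ∈ maximalIdeal A := Ideal.mul_mem_right y _ hx'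
      exact (maximalIdeal.isMaximal A).ne_top ((Ideal.eq_top_iff_one _).2
        (by simpa using sub_mem h1 (hker _ inferInstance hy)))
    exact hxu.map _
  · have h2 := ringKrullDim_add_length_eq_ringKrullDim_of_isRegular _ h
    rw [← Ideal.map_ofList, hdim N hNM, hdim0 N hNM, List.length_map] at h2
    rw [← Ideal.map_ofList, hdim M le_rfl, hdim0 M le_rfl, List.length_map, h2]

end GrothLib.DefLift
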